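import Cfsg.Agent.H830.O10.Sev.Vec
import Cfsg.Agent.LieClassical.OrthTrans
import Cfsg.Agent.H933.O10.DelNM

/-!
# Reflections in coded vectors; the overgroup argument (helper830)
-/

set_option autoImplicit false
set_option linter.unusedSectionVars false

namespace Cfsg.Agent.H830.O10.Sev

open QuadraticMap
open Cfsg.Agent.LieClassical.OrthCore Cfsg.Agent.LieClassical.OrthTrans

section ovg

variable {F : Type*} [Field F] {V : Type*} [AddCommGroup V] [Module F V] {Q : QuadraticForm F V}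

/-- **A maximal subgroup of `E Q` cannot preserve two sets, one of them preserved by a further element `y`.** -/
theorem no_maximal (hG : Good Q) {H : Subgroup (V ≃ₗ[F] V)} (hH : Cfsg.Geo.IsMaximalIn (E Q) H) {𝒮 𝒯 : Set V}
    (hS : ∀ g ∈ H, ∀ x ∈ 𝒮, g x ∈ 𝒮) (hT : ∀ g ∈ H, ∀ x ∈ 𝒯, g x ∈ 𝒯) {y : V ≃ₗ[F] V} (hy : y ∈ E Q)
    (hyS : ∀ x ∈ 𝒮, y x ∈ 𝒮) (hyS' : ∀ x ∈ 𝒮, y⁻¹ x ∈ 𝒮) {a : V} (ha : a ∈ 𝒯) (hya : y a ∉ 𝒯) {b c : V} (hb : b ∈ 𝒮)
    (hc : c ∉ 𝒮) (hb0 : b ≠ 0) (hc0 : c ≠ 0) (hbc : Q b = Q c) : False := by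
  let W : Subgroup (V ≃ₗ[F] V) :=
    { carrier := {g | g ∈ E Q ∧ (∀ x ∈ 𝒮, g x ∈ 𝒮) ∧ ∀ x ∈ 𝒮, g⁻¹ x ∈ 𝒮}
      one_mem' := ⟨(E Q).one_mem, fun x hx => hx, fun x hx => hx⟩
      mul_mem' := by
        rintro g k ⟨h1, h2, h3⟩ ⟨h4, h5, h6⟩
        refine ⟨(E Q).mul_mem h1 h4, fun x hx => h2 _ (h5 x hx), fun x hx => ?_⟩
        rw [mul_inv_rev]
        exact h6 _ (h3 x hx)
      inv_mem' := by
        rintro g ⟨h1, h2, h3⟩
        refine ⟨(E Q).inv_mem h1, h3, ?_⟩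
        rw [inv_inv]
        exact h2 }
  have h1 : H ≤ W := fun g hg => ⟨hH.1.le hg, hS g hg, hS g⁻¹ (H.inv_mem hg)⟩
  rcases hH.2 W h1 (fun g hg => hg.1) with h2 | h2
  · have h3 : y ∈ W := ⟨hy, hyS, hyS'⟩
    rw [h2] at h3
    exact hya (hT y h3 a ha)
  · obtain ⟨g, hg, e⟩ := hG.trans_norm hb0 hc0 hbc
    have h3 : g ∈ W := by rw [h2]; exact hg
    exact hc (e ▸ h3.2.1 b hb)

end ovg

section form

variable {F : Type*} [Field F] {V : Type*} [AddCommGroup V] [Module F V] {Q : QuadraticForm F V} {v : Fin 11 → V}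
variable {b c : F} (hb : ∀ i, Q (v i) = b) (hc : ∀ i j, i ≠ j → polar Q (v i) (v j) = c) (h7 : (7 : F) = 0)

include hb hc h7

theorem polar_vec {a : ℕ} (ha : ok a = true) (j : Fin 11) :
    polar Q (vec (F := F) v a) (v j) = (2 * b - c) * ((dg a j : ℕ) : F) := by
  have h1 : ∀ i, polar Q (v i) (v j) = c + if i = j then (2 * b - c) else 0 := by
    intro i
    by_cases h : i = j
    · rw [h, if_pos rfl, polar_self', hb]
      ring
    · rw [if_neg h, hc i j h, add_zero]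
  have h2 : polarBilin Q (vec (F := F) v a) (v j) = ∑ i : Fin 11, ((dg a i : ℕ) : F) * polar Q (v i) (v j) := by
    rw [vec, map_sum, LinearMap.sum_apply]
    refine Finset.sum_congr rfl fun i _ => ?_
    rw [map_smul, LinearMap.smul_apply, smul_eq_mul]
    rfl
  change polarBilin Q (vec (F := F) v a) (v j) = _
  rw [h2]
  simp only [h1, mul_add, Finset.sum_add_distrib, mul_ite, mul_zero]
  rw [← Finset.sum_mul, sum_dg h7 ha, zero_mul, zero_add, Finset.sum_ite_eq', if_pos (Finset.mem_univ _)]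
  ring

theorem polar_vec_vec {a : ℕ} (ha : ok a = true) (x : ℕ) :
    polar Q (vec (F := F) v a) (vec (F := F) v x) = (2 * b - c) * ((rd 11 a x : ℕ) : F) := by
  have h2 : polarBilin Q (vec (F := F) v a) (vec (F := F) v x) =
      ∑ j : Fin 11, ((dg x j : ℕ) : F) * polar Q (vec (F := F) v a) (v j) := by
    rw [show vec (F := F) v x = ∑ j : Fin 11, ((dg x j : ℕ) : F) • v j from rfl, map_sum]
    refine Finset.sum_congr rfl fun i _ => ?_
    rw [map_smul, smul_eq_mul]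
    rfl
  change polarBilin Q (vec (F := F) v a) (vec (F := F) v x) = _
  rw [h2, rd_eq]
  push_cast
  rw [Finset.mul_sum]
  refine Finset.sum_congr rfl fun j _ => ?_
  rw [polar_vec hb hc h7 ha]
  ring

theorem Q_vec {a : ℕ} (ha : ok a = true) (hn : rd 11 a a % 7 = 2) : Q (vec (F := F) v a) = 2 * b - c := by
  have h1 := polar_vec_vec hb hc h7 ha a
  rw [polar_self', ← cast_mod h7, hn] at h1
  push_cast at h1
  linear_combination 4 * h1 - (Q (vec (F := F) v a) - (2 * b - c)) * h7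

theorem refl_vec {a : ℕ} (ha : ok a = true) (hn : rd 11 a a % 7 = 2) (hk : 2 * b - c ≠ 0)
    (h0 : Q (vec (F := F) v a) ≠ 0) {rows : List ℕ} (hl : rows.length = 11)
    (hr : ∀ i j : Fin 11, (dg (rows.getD i 0) j + dg a i * dg a j) % 7 = if i = j then 1 else 0) (x : ℕ) :
    refl Q (vec (F := F) v a) h0 (vec (F := F) v x) = vec (F := F) v (mulM rows x) := by
  refine map_vec v h7 (refl Q (vec (F := F) v a) h0 : V →ₗ[F] V) hl ?_ x
  intro j
  change refl Q (vec (F := F) v a) h0 (v j) = _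
  rw [refl_apply, polar_vec hb hc h7 ha, Q_vec hb hc h7 ha hn, inv_mul_cancel_left₀ hk]
  have h1 : ∀ i : Fin 11, ((dg (rows.getD i 0) j : ℕ) : F) = (if i = j then 1 else 0) -
      ((dg a j : ℕ) : F) * ((dg a i : ℕ) : F) := by
    intro i
    have h2 := congrArg (Nat.cast : ℕ → F) (hr i j)
    rw [cast_mod h7] at h2
    push_cast at h2
    linear_combination h2
  simp only [h1, sub_smul, ite_smul, one_smul, zero_smul, Finset.sum_sub_distrib]
  rw [Finset.sum_ite_eq', if_pos (Finset.mem_univ _), vec, Finset.smul_sum]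
  simp only [smul_smul]

end form

end Cfsg.Agent.H830.O10.Sev
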