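import Cfsg.Agent.H830.O10.Sev.Vec
import Cfsg.Agent.H830.O10.Ele

/-!
# The checks (helper830)
-/

set_option autoImplicit false

namespace Cfsg.Agent.H830.O10.Sev

open Cfsg.Agent.H830.O10

/-- reflection vector -/
def a0 : ℕ := 6804624673

def R0 : List ℕ := [1785309912, 5127970163, 5127970219, 2631092661, 5958846538, 5128002923, 5959104586, 5130067307, 5975619658, 2765309877, 362173729]

theorem R0_eq : ∀ i j : Fin 11, (dg (R0.getD i 0) j + dg a0 i * dg a0 j) % 7 = if i = j then 1 else 0 := by
  decide +kernel

theorem a0_ok : ok a0 = true := by decide +kernel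

theorem a0_nn : rd 11 a0 a0 % 7 = 2 := by decide +kernel

/-- reflection vector -/
def a1 : ℕ := 5062142225

def R1 : List ℕ := [3527792360, 7055556005, 5523041203, 5523041651, 7055560093, 5523073907, 5060569361, 1536475746, 1551155810, 1668596322, 6596782963]

theorem R1_eq : ∀ i j : Fin 11, (dg (R1.getD i 0) j + dg a1 i * dg a1 j) % 7 = if i = j then 1 else 0 := by
  decide +kernel

theorem a1_ok : ok a1 = true := by decide +kernel

theorem a1_nn : rd 11 a1 a1 % 7 = 2 := by decide +kernel

/-- reflection vector -/
def a2 : ℕ := 5986501969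

def R2 : List ℕ := [2603432616, 5206861605, 3383073058, 5206862109, 1838476403, 3383105762, 1838734451, 5973919057, 1855249523, 1972690035, 4456814818]

theorem R2_eq : ∀ i j : Fin 11, (dg (R2.getD i 0) j + dg a2 i * dg a2 j) % 7 = if i = j then 1 else 0 := by
  decide +kernel

theorem a2_ok : ok a2 = true := by decide +kernel

theorem a2_nn : rd 11 a2 a2 % 7 = 2 := by decide +kernel

/-- reflection vector -/
def a3 : ℕ := 3836358736

def R3 : List ℕ := [1, 1989087584, 4753571880, 512, 5683634440, 2906333424, 1989349720, 6602940576, 2923077872, 3040518384, 6757372168]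

theorem R3_eq : ∀ i j : Fin 11, (dg (R3.getD i 0) j + dg a3 i * dg a3 j) % 7 = if i = j then 1 else 0 := by
  decide +kernel

theorem a3_ok : ok a3 = true := by decide +kernel

theorem a3_nn : rd 11 a3 a3 % 7 = 2 := by decide +kernel

theorem Y_eq : ∀ i j : Fin 11, dg (mulM R0 (mulM R1 (mulM R2 (mulM R3 (8 ^ (j : ℕ)))))) i = dg (Yr.getD i 0) j := by
  decide +kernel

theorem Y_sq : ∀ i j : Fin 11, dg (mulM Yr (mulM Yr (8 ^ (j : ℕ)))) i = if i = j then 1 else 0 := by
  decide +kernel

theorem X_eq : ∀ i j : Fin 11, dg (Xr.getD i 0) j = if i = xp 1 j then 1 else 0 := by decide +kernel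

theorem H_eq : ∀ i j : Fin 11, dg (Hr.getD i 0) j = if i = hp 2 j then 1 else 0 := by decide +kernel

theorem N_eq : ∀ i j : Fin 11, dg (Nr.getD i 0) j = if i = j then 6 else 0 := by decide +kernel

theorem S_ok : (S.all ok) = true := by decide +kernel

theorem S0_ok : (S0.all ok) = true := by decide +kernel

theorem S0_w : (S0.all fun c => S0.mem (mulM Wr c)) = true := by decide +kernel

theorem S0_x : (S0.all fun c => S0.mem (mulM Xr c)) = true := by decide +kernel

theorem S0_h : (S0.all fun c => S0.mem (mulM Hr c)) = true := by decide +kernel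

theorem S0_n : (S0.all fun c => S0.mem (mulM Nr c)) = true := by decide +kernel

/-- a vector moved out of `S0` by `y` -/
def s1 : ℕ := 6752127816

theorem s1_mem : S0.mem s1 = true := by decide +kernel

theorem s1_ok : ok (mulM Yr s1) = true := by decide +kernel

theorem s1_y : S0.mem (mulM Yr s1) = false := by decide +kernel

/-- a vector in `S` and one of the same norm outside -/
def s2 : ℕ := 1497936384

def s3 : ℕ := 1497935873

theorem s2_mem : S.mem s2 = true := by decide +kernel

theorem s2_nn : rd 11 s2 s2 % 7 = 2 := by decide +kernel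

theorem s3_ok : ok s3 = true := by decide +kernel

theorem s3_nn : rd 11 s3 s3 % 7 = 2 := by decide +kernel

theorem s3_mem : S.mem s3 = false := by decide +kernel

end Cfsg.Agent.H830.O10.Sev
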