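import Cfsg.Agent.H830.O10.Sev.Vec

/-!
# The checks on the 1540 vectors (helper830)
-/

set_option autoImplicit false

namespace Cfsg.Agent.H830.O10.Sev

theorem S_w : (S.all fun c => S.mem (mulM Wr c)) = true := by decide +kernel

theorem S_x : (S.all fun c => S.mem (mulM Xr c)) = true := by decide +kernel

end Cfsg.Agent.H830.O10.Sev
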