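import Cfsg.Agent.H830.O10.Sev.Rep
import Cfsg.Agent.H830.O10.Sev.Abs
import Cfsg.Agent.H830.O10.Sev.Chk
import Cfsg.Agent.H830.O10.Sev.ChkA
import Cfsg.Agent.H830.O10.Sev.ChkB

/-!
# `L₂(11) < 2.M₂₂ < Ω₁₀⁻(7)` (helper830)
-/

set_option autoImplicit false
set_option linter.unusedSectionVars false

namespace Cfsg.Agent.H830.O10.Sev

open Matrix Module Cfsg Cfsg.Geo Cfsg.Agent.H915.LD Cfsg.Agent.H464.Sl2 Cfsg.Agent.H910.Aut
open Cfsg.Agent.H933.O10 (Cx fix_of_mem_omegaGL)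
open Cfsg.Agent.ClassicalGeometry.AutPSL.Auto (cj)
open Cfsg.Agent.H830.O10

universe u

theorem W7_vs (x : Fin 11 × Fin 10) : (W7 *ᵥ vs (ZMod 7) x.1) x.2 =
    ∑ i : Fin 11, ((dg (Wr.getD i 0) x.1 : ℕ) : ZMod 7) * vs (ZMod 7) i x.2 := by
  revert x
  decide +kernel

section

variable {F : Type u} [Field F] (f : ZMod 7 →+* F)

theorem vs_map (i : Fin 11) (k : Fin 10) : f (vs (ZMod 7) i k) = vs F i k := by
  rw [vs, vs, map_sub]
  split_ifs <;> simp

theorem w_vs (j : Fin 11) : (rho f (w 1) : Matrix (Fin 10) (Fin 10) F) *ᵥ vs F j =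
    ∑ i : Fin 11, ((dg (Wr.getD i 0) j : ℕ) : F) • vs F i := by
  rw [rho_w]
  funext k
  have h1 := congrArg f (W7_vs (j, k))
  rw [map_sum] at h1
  have h2 : f ((W7 *ᵥ vs (ZMod 7) j) k) =
      ((GeneralLinearGroup.map f wu : GL (Fin 10) F) : Matrix (Fin 10) (Fin 10) F).mulVec (vs F j) k := by
    rw [Matrix.mulVec, Matrix.mulVec, dotProduct, dotProduct, map_sum]
    refine Finset.sum_congr rfl fun l _ => ?_
    rw [map_mul, vs_map]
    rfl
  rw [← h2, h1, Finset.sum_apply]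
  refine Finset.sum_congr rfl fun i _ => ?_
  rw [map_mul, map_natCast, vs_map, Pi.smul_apply, smul_eq_mul]

theorem vs_ind (α : Fin 11 → F) (h : ∑ i, α i • vs F i = 0) (i j : Fin 11) : α i = α j := by
  have key : ∀ i : Fin 11, α i = α (Fin.last 10) := by
    intro i
    rcases Fin.eq_castSucc_or_eq_last i with ⟨k, rfl⟩ | rfl
    · rw [Fin.sum_univ_castSucc] at h
      have h1 := congrFun h k
      rw [Pi.add_apply, Finset.sum_apply, Pi.zero_apply] at h1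
      simp only [Pi.smul_apply, vs_castSucc, Pi.single_apply, smul_eq_mul, mul_ite, mul_one, mul_zero] at h1
      rw [Finset.sum_ite_eq, if_pos (Finset.mem_univ _), vs, if_neg (Fin.castSucc_lt_last k).ne', if_pos rfl] at h1
      linear_combination h1
    · rfl
  rw [key i, key j]

end

theorem gr_cases : ∀ i j : Fin 11, i ≠ j → ∃ x a : ZMod 11, a ≠ 0 ∧
    ((xp x (hp a 0) = i ∧ xp x (hp a 1) = j) ∨ (xp x (hp a 0) = j ∧ xp x (hp a 1) = i)) := by
  decide +kernel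

theorem unit_pow : ∀ a : (ZMod 11)ˣ, ∃ n : Fin 10, a = (ZMod.unitOfCoprime 2 (by norm_num) : (ZMod 11)ˣ) ^ (n : ℕ) := by
  decide +kernel

variable {F : Type u} [Field F] [Fintype F] {p : ℕ} {Q : (Fin 10 → F) → F} {H P : Subgroup (GL (Fin 10) F)}

/-- `g` preserves the coded set `T` -/
def Pres (v : Fin 11 → Fin 10 → F) (T : Tr) (g : GL (Fin 10) F) : Prop :=
  ∀ k, T.mem k = true → ∃ k', T.mem k' = true ∧ (g : Matrix (Fin 10) (Fin 10) F) *ᵥ vec (F := F) v k = vec (F := F) v k'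

theorem Pres.one (v : Fin 11 → Fin 10 → F) (T : Tr) : Pres v T 1 := fun k hk => ⟨k, hk, Matrix.one_mulVec _⟩

theorem Pres.mul {v : Fin 11 → Fin 10 → F} {T : Tr} {g g' : GL (Fin 10) F} (h : Pres v T g) (h' : Pres v T g') :
    Pres v T (g * g') := by
  intro k hk
  obtain ⟨k', hk', e'⟩ := h' k hk
  obtain ⟨k'', hk'', e''⟩ := h k' hk'
  exact ⟨k'', hk'', by rw [Units.val_mul, ← Matrix.mulVec_mulVec, e', e'']⟩

theorem Pres.pow {v : Fin 11 → Fin 10 → F} {T : Tr} {g : GL (Fin 10) F} (h : Pres v T g) (n : ℕ) :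
    Pres v T (g ^ n) := by
  induction n with
  | zero => rw [pow_zero]; exact Pres.one v T
  | succ n ih => rw [pow_succ]; exact ih.mul h

theorem Pres.of_rows (h7 : (7 : F) = 0) {v : Fin 11 → Fin 10 → F} {T : Tr} {g : GL (Fin 10) F} {rows : List ℕ}
    (hl : rows.length = 11)
    (hg : ∀ j : Fin 11, (g : Matrix (Fin 10) (Fin 10) F) *ᵥ v j = ∑ i : Fin 11, ((dg (rows.getD i 0) j : ℕ) : F) • v i)
    (hT : (T.all fun c => T.mem (mulM rows c)) = true) : Pres v T g := by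
  intro k hk
  refine ⟨mulM rows k, Tr.of_all hT hk, ?_⟩
  exact map_vec v h7 (Matrix.mulVecLin (g : Matrix (Fin 10) (Fin 10) F)) hl hg k

/-- the context -/
structure Cz (f : ZMod 7 →+* F) (ρ : SpecialLinearGroup (Fin 2) (ZMod 11) →* GL (Fin 10) F) (J : GL (Fin 10) F) :
    Prop where
  conj : ∀ g, rho f g = J * ρ g * J⁻¹

namespace Cz

variable {f : ZMod 7 →+* F} {ρ : SpecialLinearGroup (Fin 2) (ZMod 11) →* GL (Fin 10) F} {J : GL (Fin 10) F}
  (c : Cz f ρ J)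

include c

theorem rho_mulVec (g : SpecialLinearGroup (Fin 2) (ZMod 11)) (j : Fin 11) :
    (ρ g : Matrix (Fin 10) (Fin 10) F) *ᵥ Ctx.vv J j =
      ((J⁻¹ : GL (Fin 10) F) : Matrix (Fin 10) (Fin 10) F) *ᵥ
        ((rho f g : Matrix (Fin 10) (Fin 10) F) *ᵥ vs F j) := by
  have h1 : ρ g = J⁻¹ * rho f g * J := by
    rw [c.conj]
    group
  rw [h1, Ctx.vv, Matrix.mulVec_mulVec, ← Units.val_mul, mul_assoc, mul_inv_cancel, mul_one, Units.val_mul,
    ← Matrix.mulVec_mulVec]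

theorem rho_u_vv (x : ZMod 11) (j : Fin 11) :
    (ρ (u x) : Matrix (Fin 10) (Fin 10) F) *ᵥ Ctx.vv J j = Ctx.vv J (xp x j) := by
  rw [c.rho_mulVec, rho_u, mg_mulVec]
  rfl

theorem rho_t_vv (a : (ZMod 11)ˣ) (j : Fin 11) :
    (ρ (t a) : Matrix (Fin 10) (Fin 10) F) *ᵥ Ctx.vv J j = Ctx.vv J (hp a j) := by
  rw [c.rho_mulVec, rho_t, mg_mulVec]
  rfl

theorem rho_w_vv (j : Fin 11) : (ρ (w 1) : Matrix (Fin 10) (Fin 10) F) *ᵥ Ctx.vv J j =
    ∑ i : Fin 11, ((dg (Wr.getD i 0) j : ℕ) : F) • Ctx.vv J i := by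
  rw [c.rho_mulVec, w_vs, Matrix.mulVec_sum]
  refine Finset.sum_congr rfl fun i _ => ?_
  rw [Matrix.mulVec_smul]
  rfl

theorem pres (h7 : (7 : F) = 0) {T : Tr} (hX : (T.all fun c => T.mem (mulM Xr c)) = true)
    (hH : (T.all fun c => T.mem (mulM Hr c)) = true) (hW : (T.all fun c => T.mem (mulM Wr c)) = true)
    (s : SpecialLinearGroup (Fin 2) (ZMod 11)) : Pres (Ctx.vv J) T (ρ s) := by
  have pX : Pres (Ctx.vv J) T (ρ (u 1)) := Pres.of_rows h7 (rows := Xr) rfl (fun j => by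
    rw [c.rho_u_vv]
    simp only [X_eq, Nat.cast_ite, Nat.cast_one, Nat.cast_zero, ite_smul, one_smul, zero_smul]
    rw [Finset.sum_ite_eq', if_pos (Finset.mem_univ _)]) hX
  have pH : Pres (Ctx.vv J) T (ρ (t (ZMod.unitOfCoprime 2 (by norm_num)))) :=
    Pres.of_rows h7 (rows := Hr) rfl (fun j => by
    rw [c.rho_t_vv]
    simp only [H_eq, Nat.cast_ite, Nat.cast_one, Nat.cast_zero, ite_smul, one_smul, zero_smul]
    rw [Finset.sum_ite_eq', if_pos (Finset.mem_univ _)]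
    rfl) hH
  have pW : Pres (Ctx.vv J) T (ρ (w 1)) := Pres.of_rows h7 (rows := Wr) rfl c.rho_w_vv hW
  have pu : ∀ x : ZMod 11, Pres (Ctx.vv J) T (ρ (u x)) := by
    intro x
    have h1 : ρ (u x) = ρ (u 1) ^ x.val := by
      rw [pow_u, mul_one, ZMod.natCast_zmod_val]
    rw [h1]
    exact pX.pow _
  have pt : ∀ a : (ZMod 11)ˣ, Pres (Ctx.vv J) T (ρ (t a)) := by
    intro a
    obtain ⟨n, hn⟩ := unit_pow a
    have h1 : ρ (t a) = ρ (t (ZMod.unitOfCoprime 2 (by norm_num))) ^ (n : ℕ) := by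
      rw [← map_pow]
      congr 1
      rw [hn]
      exact map_pow (tHom (K := ZMod 11)) _ _
    rw [h1]
    exact pH.pow _
  rcases bruhat s with ⟨x, a, rfl⟩ | ⟨x, d, y, rfl⟩
  · rw [map_mul]
    exact (pu x).mul (pt a)
  · rw [w_eq, map_mul, map_mul, map_mul]
    exact ((pu x).mul (pW.mul (pt d))).mul (pu y)

end Cz

/-- the scalar `-1` -/
theorem neg_vec (h7 : (7 : F) = 0) (v : Fin 11 → Fin 10 → F) (k : ℕ) :
    -vec (F := F) v k = vec (F := F) v (mulM Nr k) := by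
  refine map_vec v h7 (-LinearMap.id) (rows := Nr) rfl (fun j => ?_) k
  simp only [N_eq, LinearMap.neg_apply, LinearMap.id_apply, Nat.cast_ite, Nat.cast_zero, ite_smul, zero_smul]
  rw [Finset.sum_ite_eq', if_pos (Finset.mem_univ _)]
  have h1 : ((6 : ℕ) : F) = -1 := by
    push_cast
    linear_combination h7
  rw [h1, neg_one_smul]

/-- **`|F| = 7`, the other characters.** -/
theorem kill (h : Cx p Q H P) (hF : Fintype.card F = 7)
    (e : Soc P ≃* ProjectiveSpecialLinearGroup (Fin 2) (ZMod 11))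
    {ρ : SpecialLinearGroup (Fin 2) (ZMod 11) →* GL (Fin 10) F} (hρ : ρ.range = P)
    (hρe : ∀ (g : SpecialLinearGroup (Fin 2) (ZMod 11)) (h : ρ g ∈ P), e (toSoc P ⟨ρ g, h⟩) = QuotientGroup.mk g)
    (hz : ρ (t (-1)) = 1) (hu : ∀ x : ZMod 11, x ≠ 0 → tr (ρ (u x)) = -1)
    (hZ : ∀ τ : ZMod 11, τ ^ 2 - 4 ≠ 0 → tr (ρ (Zt τ)) = ((fz (-1) τ : ℤ) : F)) : False := by
  obtain rfl := char_of_card h (by norm_num) hF
  have hch := h.char
  have h70 : (7 : F) = 0 := by exact_mod_cast CharP.cast_eq_zero F 7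
  let f : ZMod 7 →+* F := ZMod.castHom (dvd_refl 7) F
  obtain ⟨J, hJ⟩ := exists_J h.core hρ hz hu hZ (rho_neg f) (tr_rho_u f) (tr_rho_Zt f)
  have c : Cz f ρ J := ⟨hJ⟩
  have hmem : ∀ g, ρ g ∈ P := fun g => hρ ▸ ⟨g, rfl⟩
  -- the normaliser
  have hN : ∀ x ∈ H, ∃ (s : SpecialLinearGroup (Fin 2) (ZMod 11)) (a : F),
      (x : Matrix (Fin 10) (Fin 10) F) = a • (ρ s : Matrix (Fin 10) (Fin 10) F) := by
    intro x hx
    obtain ⟨g, a, hg | hg⟩ := nrm_cases h.core e ρ hρ hρe (twist_conj hJ (np_twist f)) (Nrm.of_core h.hc hx)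
    · exact ⟨g, a, hg⟩
    · exfalso
      have ha := FiniteField.pow_card_sub_one_eq_one a (scalar_mul_ne hg)
      rw [hF] at ha
      have h1 := det_omegaGL (h.hH.1.le hx)
      rw [hg, Matrix.det_smul, Fintype.card_fin, Units.val_mul, Matrix.det_mul, det_omegaGL (h.le_omega (hmem g)),
        Units.val_mul, Units.val_mul, Matrix.det_mul, Matrix.det_mul, det_np, one_mul] at h1
      have h2 : ((J⁻¹ : GL (Fin 10) F) : Matrix (Fin 10) (Fin 10) F).det * (J : Matrix (Fin 10) (Fin 10) F).det = 1 := by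
        rw [← Matrix.det_mul, ← Units.val_mul, inv_mul_cancel, Units.val_one, Matrix.det_one]
      have h3 : a ^ 10 = -1 := by linear_combination -h1 - a ^ 10 * h2
      have h4 : (2 : F) = 0 := by
        linear_combination (a ^ 20 - a ^ 10 + 1) * h3 - (a ^ 24 + a ^ 18 + a ^ 12 + a ^ 6 + 1) * ha
      exact one_ne_zero (show (1 : F) = 0 by linear_combination h70 - 3 * h4)
  obtain ⟨R, hR, hRn⟩ := H883.Bridge.exists_quadraticForm h.hQ
  have hG : LieClassical.OrthTrans.Good R := H883.Bridge.good_of_card hRn (by rw [Fintype.card_fin]; norm_num)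
  have hHR : IsMaximalIn (omegaGL (R : (Fin 10 → F) → F)) H := by rw [hR]; exact h.hH
  have hfix : ∀ (s : SpecialLinearGroup (Fin 2) (ZMod 11)) (v : Fin 10 → F),
      R ((ρ s : Matrix (Fin 10) (Fin 10) F) *ᵥ v) = R v := by
    intro s v
    rw [hR]
    exact fix_of_mem_omegaGL (h.le_omega (hmem s)) v
  have hpol : ∀ (s : SpecialLinearGroup (Fin 2) (ZMod 11)) (v w : Fin 10 → F),
      QuadraticMap.polar R ((ρ s : Matrix (Fin 10) (Fin 10) F) *ᵥ v) ((ρ s : Matrix (Fin 10) (Fin 10) F) *ᵥ w) =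
        QuadraticMap.polar R v w := by
    intro s v w
    rw [QuadraticMap.polar, ← mulVec_add, hfix, hfix, hfix]
    rfl
  have hb : ∀ i, R (Ctx.vv J i) = R (Ctx.vv J 0) := by
    intro i
    have h1 := hfix (u (show ZMod 11 from i)) (Ctx.vv J 0)
    rw [c.rho_u_vv] at h1
    rw [← h1]
    congr 2
    exact (zero_add (show ZMod 11 from i)).symm
  have hc : ∀ i j, i ≠ j → QuadraticMap.polar R (Ctx.vv J i) (Ctx.vv J j) =
      QuadraticMap.polar R (Ctx.vv J 0) (Ctx.vv J 1) := by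
    intro i j hij
    obtain ⟨x, a, ha, h1⟩ := gr_cases i j hij
    have h2 : QuadraticMap.polar R (Ctx.vv J (xp x (hp a 0))) (Ctx.vv J (xp x (hp a 1))) =
        QuadraticMap.polar R (Ctx.vv J 0) (Ctx.vv J 1) := by
      have h3 : ∀ j, Ctx.vv J (hp a j) = (ρ (t (Units.mk0 a ha)) : Matrix (Fin 10) (Fin 10) F) *ᵥ Ctx.vv J j := by
        intro j
        rw [c.rho_t_vv]
        rfl
      rw [← c.rho_u_vv, ← c.rho_u_vv, hpol, h3, h3, hpol]
    rcases h1 with ⟨h3, h4⟩ | ⟨h3, h4⟩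
    · rw [h3, h4] at h2
      exact h2
    · rw [h3, h4, QuadraticMap.polar_comm] at h2
      exact h2
  have hind : ∀ α : Fin 11 → F, ∑ i, α i • Ctx.vv J i = 0 → ∀ i j, α i = α j := by
    intro α hα
    apply vs_ind α
    apply mulVec_inj J⁻¹
    rw [Matrix.mulVec_zero, Matrix.mulVec_sum, ← hα]
    refine Finset.sum_congr rfl fun i _ => ?_
    rw [Matrix.mulVec_smul]
    rfl
  have hspan : ∀ z : Fin 10 → F, z = ∑ k : Fin 10, ((J : Matrix (Fin 10) (Fin 10) F) *ᵥ z) k • Ctx.vv J k.castSucc := by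
    intro z
    have h1 : (J : Matrix (Fin 10) (Fin 10) F) *ᵥ z =
        ∑ k : Fin 10, ((J : Matrix (Fin 10) (Fin 10) F) *ᵥ z) k • vs F k.castSucc := by
      simp only [vs_castSucc]
      exact pi_eq_sum_univ' _
    apply mulVec_inj J
    rw [Matrix.mulVec_sum]
    conv_lhs => rw [h1]
    refine Finset.sum_congr rfl fun k _ => ?_
    rw [Matrix.mulVec_smul, Ctx.vv, Matrix.mulVec_mulVec, ← Units.val_mul, mul_inv_cancel, Units.val_one,
      Matrix.one_mulVec]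
  have hsum := H933.O10.map_sum_gr (Q := R) (v := Ctx.vv J) hc hb Finset.univ
  rw [Ctx.vv_sum, QuadraticMap.map_zero, Finset.card_univ, Fintype.card_fin, show (11 : ℕ).choose 2 = 55 by decide] at hsum
  push_cast at hsum
  have hk : 2 * R (Ctx.vv J 0) - QuadraticMap.polar R (Ctx.vv J 0) (Ctx.vv J 1) ≠ 0 := by
    intro hk
    have ha0 : QuadraticMap.polar R (Ctx.vv J 0) (Ctx.vv J 1) = 0 := by
      linear_combination -44 * hk - 8 * hsum - 69 * QuadraticMap.polar R (Ctx.vv J 0) (Ctx.vv J 1) * h70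
    have hb0 : R (Ctx.vv J 0) = 0 := by
      rw [ha0] at hk
      linear_combination 4 * hk - R (Ctx.vv J 0) * h70
    obtain ⟨-, z, hz⟩ := h.hQ.nondegenerate (Ctx.vv J 0) (Ctx.vv_ne 0)
    apply hz
    rw [← hR]
    have hlin : ∀ j, QuadraticMap.polarBilin R (Ctx.vv J 0) (Ctx.vv J j) = 0 := by
      intro j
      change QuadraticMap.polar R (Ctx.vv J 0) (Ctx.vv J j) = 0
      by_cases hj : 0 = j
      · rw [← hj, QuadraticMap.polar_self, hb0, smul_zero]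
      · rw [hc 0 j hj, ha0]
    change QuadraticMap.polarBilin R (Ctx.vv J 0) z = 0
    rw [hspan z, map_sum]
    exact Finset.sum_eq_zero fun k _ => by rw [map_smul, hlin, smul_zero]
  -- the abstract setting
  let E0 := LieClassical.OrthFinite.glEquiv (Fin 10) F
  have hap : ∀ (g : GL (Fin 10) F) (v : Fin 10 → F), E0 g v = (g : Matrix (Fin 10) (Fin 10) F) *ᵥ v :=
    fun g v => LieClassical.OrthFinite.glEquiv_apply g v
  have hH' : IsMaximalIn (LieClassical.OrthCore.E R) (H.map E0.toMonoidHom) := by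
    have h1 := (H883.Bridge.isMaximalIn_map_iff E0 (omegaGL (R : (Fin 10 → F) → F)) H).2 hHR
    rwa [H883.Bridge.map_omegaGL_eq_E hG] at h1
  have hpres : ∀ T : Tr, (T.all fun c => T.mem (mulM Xr c)) = true → (T.all fun c => T.mem (mulM Hr c)) = true →
      (T.all fun c => T.mem (mulM Wr c)) = true → (T.all fun c => T.mem (mulM Nr c)) = true →
      ∀ g ∈ H.map E0.toMonoidHom, ∀ x ∈ {x | ∃ k, T.mem k = true ∧ x = vec (F := F) (Ctx.vv J) k},
        g x ∈ {x | ∃ k, T.mem k = true ∧ x = vec (F := F) (Ctx.vv J) k} := by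
    rintro T hX hH hW hNn _ ⟨x, hx, rfl⟩ _ ⟨k, hk, rfl⟩
    obtain ⟨s, a, hs⟩ := hN x hx
    obtain ⟨k', hk', e'⟩ := c.pres h70 hX hH hW s k hk
    have h1 : E0 x (vec (F := F) (Ctx.vv J) k) = a • vec (F := F) (Ctx.vv J) k' := by
      rw [hap, hs, Matrix.smul_mulVec, e']
    change ∃ l, T.mem l = true ∧ E0 x (vec (F := F) (Ctx.vv J) k) = vec (F := F) (Ctx.vv J) l
    rw [h1]
    have ha : a = 1 ∨ a = -1 := by
      have h2 : a ^ 2 = 1 := by
        have h3 : ((x * (ρ s)⁻¹ : GL (Fin 10) F) : Matrix (Fin 10) (Fin 10) F) = a • (1 : Matrix (Fin 10) (Fin 10) F) := by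
          rw [Units.val_mul, hs, Matrix.smul_mul, ← Units.val_mul, mul_inv_cancel, Units.val_one]
        have h4 : x * (ρ s)⁻¹ ∈ omegaGL Q :=
          (omegaGL Q).mul_mem (h.hH.1.le hx) ((omegaGL Q).inv_mem (h.le_omega (hmem s)))
        obtain ⟨v, hv⟩ := H879.TL.exists_ne_of_nondeg h.hQ
        have h5 := fix_of_mem_omegaGL h4 v
        rw [h3, Matrix.smul_mulVec, Matrix.one_mulVec, h.hQ.smul] at h5
        have h6 : (a ^ 2 - 1) * Q v = 0 := by rw [sub_mul, h5, one_mul, sub_self]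
        exact sub_eq_zero.1 ((mul_eq_zero.1 h6).resolve_right hv)
      rcases mul_self_eq_one_iff.1 ((sq a).symm.trans h2) with h3 | h3
      · exact Or.inl h3
      · exact Or.inr h3
    rcases ha with rfl | rfl
    · exact ⟨k', hk', by rw [one_smul]⟩
    · exact ⟨mulM Nr k', Tr.of_all hNn hk', by rw [neg_one_smul, neg_vec h70]⟩
  -- the reflections
  have hnn : ∀ {a : ℕ}, ok a = true → rd 11 a a % 7 = 2 → R (vec (F := F) (Ctx.vv J) a) ≠ 0 := by
    intro a ha hn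
    rw [Q_vec hb hc h70 ha hn]
    exact hk
  have hQ : ∀ {a : ℕ}, ok a = true → rd 11 a a % 7 = 2 → R (vec (F := F) (Ctx.vv J) a) =
      2 * R (Ctx.vv J 0) - QuadraticMap.polar R (Ctx.vv J 0) (Ctx.vv J 1) := fun ha hn => Q_vec hb hc h70 ha hn
  have n0 := hnn a0_ok a0_nn
  have n1 := hnn a1_ok a1_nn
  have n2 := hnn a2_ok a2_nn
  have n3 := hnn a3_ok a3_nn
  let y : (Fin 10 → F) ≃ₗ[F] (Fin 10 → F) :=
    (LieClassical.OrthCore.refl R _ n0 * LieClassical.OrthCore.refl R _ n1) *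
      (LieClassical.OrthCore.refl R _ n2 * LieClassical.OrthCore.refl R _ n3)
  have hy : y ∈ LieClassical.OrthCore.E R :=
    Subgroup.mul_mem _ (hG.refl_mul_refl_mem n1 n0 (by rw [hQ a1_ok a1_nn, hQ a0_ok a0_nn]))
      (hG.refl_mul_refl_mem n3 n2 (by rw [hQ a3_ok a3_nn, hQ a2_ok a2_nn]))
  have hyv : ∀ k, y (vec (F := F) (Ctx.vv J) k) =
      vec (F := F) (Ctx.vv J) (mulM R0 (mulM R1 (mulM R2 (mulM R3 k)))) := by
    intro k
    change LieClassical.OrthCore.refl R _ n0 (LieClassical.OrthCore.refl R _ n1 (LieClassical.OrthCore.refl R _ n2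
      (LieClassical.OrthCore.refl R _ n3 (vec (F := F) (Ctx.vv J) k)))) = _
    rw [refl_vec hb hc h70 a3_ok a3_nn hk n3 (rows := R3) rfl R3_eq,
      refl_vec hb hc h70 a2_ok a2_nn hk n2 (rows := R2) rfl R2_eq,
      refl_vec hb hc h70 a1_ok a1_nn hk n1 (rows := R1) rfl R1_eq,
      refl_vec hb hc h70 a0_ok a0_nn hk n0 (rows := R0) rfl R0_eq]
  have hyY : ∀ k, y (vec (F := F) (Ctx.vv J) k) = vec (F := F) (Ctx.vv J) (mulM Yr k) := by
    intro k
    refine map_vec (Ctx.vv J) h70 (y : (Fin 10 → F) →ₗ[F] (Fin 10 → F)) (rows := Yr) rfl (fun j => ?_) k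
    change y (Ctx.vv J j) = _
    conv_lhs => rw [← vec_pow (F := F) (Ctx.vv J) j]
    rw [hyv, vec]
    exact Finset.sum_congr rfl fun i _ => by rw [Y_eq]
  have hyS : ∀ x ∈ {x | ∃ k, S.mem k = true ∧ x = vec (F := F) (Ctx.vv J) k},
      y x ∈ {x | ∃ k, S.mem k = true ∧ x = vec (F := F) (Ctx.vv J) k} := by
    rintro _ ⟨k, hk, rfl⟩
    exact ⟨_, Tr.of_all S_y hk, hyY k⟩
  have hyy : ∀ k, y (y (vec (F := F) (Ctx.vv J) k)) = vec (F := F) (Ctx.vv J) k := by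
    have h1 : ∀ j : Fin 11, y (y (Ctx.vv J j)) = Ctx.vv J j := by
      intro j
      conv_lhs => rw [← vec_pow (F := F) (Ctx.vv J) j]
      rw [hyY, hyY, vec]
      simp only [Y_sq, Nat.cast_ite, Nat.cast_one, Nat.cast_zero, ite_smul, one_smul, zero_smul]
      rw [Finset.sum_ite_eq', if_pos (Finset.mem_univ _)]
    intro k
    rw [vec, map_sum, map_sum]
    refine Finset.sum_congr rfl fun j _ => ?_
    rw [map_smul, map_smul, h1]
  have hyS' : ∀ x ∈ {x | ∃ k, S.mem k = true ∧ x = vec (F := F) (Ctx.vv J) k},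
      y⁻¹ x ∈ {x | ∃ k, S.mem k = true ∧ x = vec (F := F) (Ctx.vv J) k} := by
    rintro _ ⟨k, hk, rfl⟩
    have h1 : y⁻¹ (vec (F := F) (Ctx.vv J) k) = y (vec (F := F) (Ctx.vv J) k) := by
      conv_lhs => rw [← hyy k]
      exact LinearEquiv.symm_apply_apply y _
    rw [h1]
    exact hyS _ ⟨k, hk, rfl⟩
  have hne : ∀ {a : ℕ}, ok a = true → rd 11 a a % 7 = 2 → vec (F := F) (Ctx.vv J) a ≠ 0 := by
    intro a ha hn h0
    apply hnn ha hn
    rw [h0, QuadraticMap.map_zero]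
  have s2_ok : ok s2 = true := Tr.of_all S_ok s2_mem
  refine no_maximal hG hH' (hpres S S_x S_h S_w S_n) (hpres S0 S0_x S0_h S0_w S0_n) hy hyS hyS'
    (a := vec (F := F) (Ctx.vv J) s1) ⟨s1, s1_mem, rfl⟩ ?_ (b := vec (F := F) (Ctx.vv J) s2)
    (c := vec (F := F) (Ctx.vv J) s3) ⟨s2, s2_mem, rfl⟩ ?_ (hne s2_ok s2_nn) (hne s3_ok s3_nn) ?_
  · rintro ⟨k, hk, hk'⟩
    rw [hyY] at hk'
    have h1 := vec_inj (Ctx.vv J) hind s1_ok (Tr.of_all S0_ok hk) hk'
    rw [← h1, s1_y] at hk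
    exact absurd hk (by decide)
  · rintro ⟨k, hk, hk'⟩
    have h1 := vec_inj (Ctx.vv J) hind s3_ok (Tr.of_all S_ok hk) hk'
    rw [← h1, s3_mem] at hk
    exact absurd hk (by decide)
  · rw [hQ s2_ok s2_nn, hQ s3_ok s3_nn]

end Cfsg.Agent.H830.O10.Sev
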