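import Cfsg.Agent.H830.O10.EleKill

/-!
# The other representation of degree 10 of `L₂(11)` in characteristic 7 (helper830)
-/

set_option autoImplicit false
set_option linter.unusedSectionVars false

namespace Cfsg.Agent.H830.O10.Sev

open Matrix Module Cfsg Cfsg.Geo Cfsg.Agent.H915.LD Cfsg.Agent.H464.Sl2 Cfsg.Agent.H910.Aut
open Cfsg.Agent.H933.O10 (Cx fix_of_mem_omegaGL)
open Cfsg.Agent.ClassicalGeometry.AutPSL.Auto (cj)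
open Cfsg.Agent.H830.O10

universe u

/-- the involution -/
def W7 : Matrix (Fin 10) (Fin 10) (ZMod 7) := !![6, 4, 3, 3, 2, 4, 2, 0, 2, 1; 0, 3, 2, 1, 2, 2, 5, 5, 6, 5; 0, 3, 3, 6, 6, 0, 1, 5, 0, 6; 0, 2, 6, 0, 1, 4, 0, 3, 1, 6; 0, 4, 0, 2, 0, 1, 1, 3, 5, 6; 0, 2, 6, 3, 6, 2, 6, 6, 0, 0; 0, 0, 2, 1, 1, 1, 0, 4, 2, 4; 0, 2, 1, 6, 5, 3, 6, 5, 1, 5; 0, 1, 1, 2, 5, 2, 2, 6, 6, 4; 0, 1, 1, 1, 0, 3, 5, 4, 5, 1]

/-- permutations -/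
def pm (σ : Equiv.Perm (Fin 11)) : Matrix (Fin 10) (Fin 10) (ZMod 7) := fun i j => ((mz σ i j : ℤ) : ZMod 7)

theorem W7_sq : W7 * W7 = 1 := by decide +kernel

theorem W7_h : ∀ a : ZMod 11, a ≠ 0 → W7 * pm (hp a) = pm (hp a⁻¹) * W7 := by decide +kernel

/-- `z ↦ -z` -/
def np : Equiv.Perm (Fin 11) :=
  (⟨fun i => -i, fun i => -i, fun i => by ring, fun i => by ring⟩ : Equiv.Perm (ZMod 11))

theorem W7_n : W7 * pm np = pm np * W7 := by decide +kernel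

theorem trz_Zt : ∀ τ : ZMod 11, τ ^ 2 - 4 ≠ 0 → (pm (xp τ) * W7).trace = ((fz (-1) τ : ℤ) : ZMod 7) := by decide +kernel

end Cfsg.Agent.H830.O10.Sev
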