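import Cfsg.Agent.H830.O10.Sev.Wx

/-!
# The representation (helper830)
-/

set_option autoImplicit false
set_option linter.unusedSectionVars false

namespace Cfsg.Agent.H830.O10.Sev

open Matrix Module Cfsg Cfsg.Geo Cfsg.Agent.H915.LD Cfsg.Agent.H464.Sl2 Cfsg.Agent.H910.Aut
open Cfsg.Agent.H933.O10 (Cx fix_of_mem_omegaGL)
open Cfsg.Agent.ClassicalGeometry.AutPSL.Auto (cj)
open Cfsg.Agent.H830.O10

universe u

instance fact7 : Fact (Nat.Prime 7) := ⟨by norm_num⟩

/-- the involution as a unit -/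
def wu : GL (Fin 10) (ZMod 7) := ⟨W7, W7, W7_sq, W7_sq⟩

theorem mg_coe (σ : Equiv.Perm (Fin 11)) : (mg (ZMod 7) σ : Matrix (Fin 10) (Fin 10) (ZMod 7)) = pm σ := rfl

theorem rel7 : Lib.SL2Lift.Rel (fun t : ZMod 11 => mg (ZMod 7) (xp t)) (fun a => mg (ZMod 7) (hp a)) wu where
  add s t := by rw [relp.add, map_mul]
  mul a b ha hb := by rw [relp.mul a b ha hb, map_mul]
  conj a t ha := by rw [← map_mul, relp.conj a t ha, map_mul]
  wh a ha := Units.ext (W7_h a ha)
  ww := by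
    have h1 : hp (-1 : ZMod 11) = 1 := by decide +kernel
    rw [h1, map_one]
    exact Units.ext W7_sq
  wx t ht := by
    rw [mul_assoc, ← map_mul, mul_assoc]
    exact Units.ext (W7_x t ht)

/-- the representation over the prime field -/
noncomputable def rho0 : SpecialLinearGroup (Fin 2) (ZMod 11) →* GL (Fin 10) (ZMod 7) := Lib.SL2Lift.hom rel7

theorem rho0_u (x : ZMod 11) : rho0 (u x) = mg (ZMod 7) (xp x) := Lib.SL2Lift.hom_X rel7 x

theorem rho0_t (a : (ZMod 11)ˣ) : rho0 (t a) = mg (ZMod 7) (hp a) := by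
  rw [t_eq]
  exact Lib.SL2Lift.hom_H rel7 _ _

theorem rho0_w : rho0 (w 1) = wu := by
  rw [w_one_eq, map_mul, rho0_t]
  have h : rho0 Lib.SL2Lift.W = wu := Lib.SL2Lift.hom_W rel7
  have h1 : hp (((-1 : (ZMod 11)ˣ) : ZMod 11)) = 1 := by decide +kernel
  rw [h, h1, map_one, one_mul]

section

variable {F : Type u} [Field F] (f : ZMod 7 →+* F)

/-- base change -/
noncomputable def rho : SpecialLinearGroup (Fin 2) (ZMod 11) →* GL (Fin 10) F := (GeneralLinearGroup.map f).comp rho0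

theorem map_mg (σ : Equiv.Perm (Fin 11)) : GeneralLinearGroup.map f (mg (ZMod 7) σ) = mg F σ := by
  apply Units.ext
  ext i j
  change f ((mz σ i j : ℤ) : ZMod 7) = ((mz σ i j : ℤ) : F)
  rw [map_intCast]

theorem rho_u (x : ZMod 11) : rho f (u x) = mg F (xp x) := by
  rw [rho, MonoidHom.comp_apply, rho0_u, map_mg]

theorem rho_t (a : (ZMod 11)ˣ) : rho f (t a) = mg F (hp a) := by
  rw [rho, MonoidHom.comp_apply, rho0_t, map_mg]

theorem rho_w : rho f (w 1) = GeneralLinearGroup.map f wu := by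
  rw [rho, MonoidHom.comp_apply, rho0_w]

theorem rho_neg : rho f (t (-1)) = 1 := by
  rw [rho_t]
  have h1 : hp (((-1 : (ZMod 11)ˣ) : ZMod 11)) = 1 := by decide +kernel
  rw [h1, map_one]

theorem tr_rho_u (x : ZMod 11) (hx : x ≠ 0) : tr (rho f (u x)) = -1 := by
  rw [rho_u, tr_mg, trz_u x hx]
  norm_num

theorem tr_rho_Zt (τ : ZMod 11) (hτ : τ ^ 2 - 4 ≠ 0) : tr (rho f (Zt τ)) = ((fz (-1) τ : ℤ) : F) := by
  have h1 : (rho0 (Zt τ) : Matrix (Fin 10) (Fin 10) (ZMod 7)).trace = ((fz (-1) τ : ℤ) : ZMod 7) := by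
    rw [Zt, map_mul, rho0_u, rho0_w]
    exact trz_Zt τ hτ
  have h2 : tr (rho f (Zt τ)) = f (rho0 (Zt τ) : Matrix (Fin 10) (Fin 10) (ZMod 7)).trace := by
    rw [tr, Matrix.trace, Matrix.trace, map_sum]
    rfl
  rw [h2, h1, map_intCast]

theorem np_u : ∀ x : ZMod 11, np * xp x = xp (-x) * np := by decide +kernel

theorem np_h : ∀ a : ZMod 11, np * hp a = hp a * np := by decide +kernel

theorem np_twist (g : SpecialLinearGroup (Fin 2) (ZMod 11)) :
    mg F np * rho f g * (mg F np)⁻¹ = rho f (cj dd g) := by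
  refine twist_of_gen (rho_neg f) ?_ ?_ ?_ g
  · intro x
    rw [mul_inv_eq_iff_eq_mul, rho_u, rho_u, ← map_mul, ← map_mul, np_u]
  · intro a
    rw [mul_inv_eq_iff_eq_mul, rho_t, ← map_mul, ← map_mul, np_h]
  · rw [mul_inv_eq_iff_eq_mul, rho_w, ← map_mg f, ← map_mul, ← map_mul]
    congr 1
    exact Units.ext W7_n.symm

/-- the reversal of the ten basis vectors -/
def rv : Equiv.Perm (Fin 10) := ⟨fun i => 9 - i, fun i => 9 - i, by unfold Function.LeftInverse; decide,
  by unfold Function.RightInverse Function.LeftInverse; decide⟩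

theorem mz_rv (k j : Fin 10) : mz (xp 10 * np * (xp 10)⁻¹ : Equiv.Perm (Fin 11)) k j = if rv j = k then 1 else 0 := by
  have h : ∀ x : Fin 10 × Fin 10, (mz (xp 10 * np * (xp 10)⁻¹ : Equiv.Perm (Fin 11)) x.1 x.2 : ℤ) =
    if rv x.2 = x.1 then 1 else 0 := by decide +kernel
  exact h (k, j)

theorem sign_rv : Equiv.Perm.sign rv = -1 := by decide +kernel

theorem det_np : (mg F np : Matrix (Fin 10) (Fin 10) F).det = -1 := by
  have h1 : (mg F (xp 10 * np * (xp 10)⁻¹) : Matrix (Fin 10) (Fin 10) F) = (Equiv.Perm.permMatrix F rv)ᵀ := by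
    ext k j
    change ((mz (xp 10 * np * (xp 10)⁻¹ : Equiv.Perm (Fin 11)) k j : ℤ) : F) = _
    rw [mz_rv, Matrix.transpose_apply, Equiv.Perm.permMatrix, PEquiv.toMatrix_apply]
    by_cases h : rv j = k
    · rw [if_pos h, h.symm]
      simp
    · rw [if_neg h, if_neg (by simpa [eq_comm] using h)]
      simp
  have h2 := congrArg Matrix.det h1
  rw [Matrix.det_transpose, Matrix.det_permutation, sign_rv, map_mul, map_mul, Units.val_mul, Units.val_mul,
    Matrix.det_mul, Matrix.det_mul, mul_right_comm, ← Matrix.det_mul, ← Units.val_mul, map_inv, mul_inv_cancel,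
    Units.val_one, Matrix.det_one, one_mul] at h2
  rw [h2]
  simp

end

end Cfsg.Agent.H830.O10.Sev
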