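import Cfsg.Agent.H830.O10.Sev.Data

/-!
# Coded vectors (helper830)
-/

set_option autoImplicit false
set_option linter.unusedSectionVars false

namespace Cfsg.Agent.H830.O10.Sev

/-- digits -/
def dg (c i : ℕ) : ℕ := c / 8 ^ i % 8

theorem dg_zero (c : ℕ) : dg c 0 = c % 8 := by
  rw [dg, pow_zero, Nat.div_one]

theorem dg_succ (c i : ℕ) : dg c (i + 1) = dg (c / 8) i := by
  rw [dg, dg, pow_succ', Nat.div_div_eq_div_mul]

theorem rd_eq (n : ℕ) : ∀ r c : ℕ, rd n r c = ∑ i : Fin n, dg r i * dg c i := by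
  induction n with
  | zero => intro r c; rfl
  | succ n ih =>
    intro r c
    rw [Fin.sum_univ_succ]
    change (r % 8) * (c % 8) + rd n (r / 8) (c / 8) = _
    rw [ih]
    simp only [Fin.val_zero, dg_zero, Fin.val_succ, dg_succ]

theorem dg_mulM (rows : List ℕ) : ∀ (c i : ℕ), i < rows.length → dg (mulM rows c) i = rd 11 (rows.getD i 0) c % 7 := by
  induction rows with
  | nil => intro c i hi; exact absurd hi (Nat.not_lt_zero _)
  | cons r rs ih =>
    intro c i hi
    change dg (rd 11 r c % 7 + 8 * mulM rs c) i = _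
    have h7 : rd 11 r c % 7 < 7 := Nat.mod_lt _ (by norm_num)
    cases i with
    | zero =>
      rw [dg_zero, Nat.add_mul_mod_self_left, Nat.mod_eq_of_lt (by omega)]
      rfl
    | succ i =>
      rw [dg_succ, Nat.add_mul_div_left _ _ (by norm_num), Nat.div_eq_of_lt (by omega), Nat.zero_add,
        ih c i (by simpa using hi)]
      rfl

/-- digits below 7, at most `n` of them -/
def okd : ℕ → ℕ → Bool
  | 0, c => Nat.beq c 0
  | n + 1, c => Nat.blt (Nat.mod c 8) 7 && okd n (Nat.div c 8)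

theorem okd_lt {n : ℕ} : ∀ {c : ℕ}, okd n c = true → ∀ i, dg c i < 7 := by
  induction n with
  | zero =>
    intro c h i
    rw [Nat.eq_of_beq_eq_true h, dg, Nat.zero_div]
    norm_num
  | succ n ih =>
    intro c h i
    rw [okd, Bool.and_eq_true] at h
    cases i with
    | zero =>
      rw [dg_zero]
      have := h.1
      rw [Nat.blt_eq] at this
      exact this
    | succ i =>
      rw [dg_succ]
      exact ih h.2 i

theorem okd_ext {n : ℕ} : ∀ {c c' : ℕ}, okd n c = true → okd n c' = true → (∀ i < n, dg c i = dg c' i) → c = c' := by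
  induction n with
  | zero =>
    intro c c' h h' _
    rw [Nat.eq_of_beq_eq_true h, Nat.eq_of_beq_eq_true h']
  | succ n ih =>
    intro c c' h h' heq
    rw [okd, Bool.and_eq_true] at h h'
    have h1 := ih h.2 h'.2 (fun i hi => by
      have := heq (i + 1) (by omega)
      rwa [dg_succ, dg_succ] at this)
    have h2 := heq 0 (by omega)
    rw [dg_zero, dg_zero] at h2
    change c / 8 = c' / 8 at h1
    omega

/-- sum-zero codes -/
def ok (c : ℕ) : Bool := okd 11 c && Nat.beq (Nat.mod (rd 11 1227133513 c) 7) 0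

variable {F : Type*} [Field F] {V : Type*} [AddCommGroup V] [Module F V] (v : Fin 11 → V)

/-- coded vectors -/
def vec (c : ℕ) : V := ∑ i : Fin 11, ((dg c i : ℕ) : F) • v i

theorem cast_mod (h7 : (7 : F) = 0) (n : ℕ) : ((n % 7 : ℕ) : F) = (n : F) := by
  conv_rhs => rw [← Nat.div_add_mod n 7]
  push_cast
  rw [h7, zero_mul, zero_add]

/-- images of coded vectors -/
theorem map_vec (h7 : (7 : F) = 0) (g : V →ₗ[F] V) {rows : List ℕ} (hl : rows.length = 11)
    (hg : ∀ j : Fin 11, g (v j) = ∑ i : Fin 11, ((dg (rows.getD i 0) j : ℕ) : F) • v i) (c : ℕ) :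
    g (vec (F := F) v c) = vec (F := F) v (mulM rows c) := by
  rw [vec, vec, map_sum]
  simp only [map_smul, hg, Finset.smul_sum, smul_smul]
  rw [Finset.sum_comm]
  refine Finset.sum_congr rfl fun i _ => ?_
  rw [← Finset.sum_smul, dg_mulM rows c i (by rw [hl]; exact i.2), cast_mod h7, rd_eq]
  congr 1
  push_cast
  exact Finset.sum_congr rfl fun j _ => mul_comm _ _

theorem vec_pow (j : Fin 11) : vec (F := F) v (8 ^ (j : ℕ)) = v j := by
  have h : ∀ i j : Fin 11, dg (8 ^ (j : ℕ)) i = if i = j then 1 else 0 := by decide +kernel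
  rw [vec]
  simp only [h, Nat.cast_ite, Nat.cast_one, Nat.cast_zero, ite_smul, one_smul, zero_smul]
  rw [Finset.sum_ite_eq', if_pos (Finset.mem_univ _)]

theorem sum_dg (h7 : (7 : F) = 0) {c : ℕ} (hc : ok c = true) : ∑ i : Fin 11, ((dg c i : ℕ) : F) = 0 := by
  rw [ok, Bool.and_eq_true] at hc
  have h1 := Nat.eq_of_beq_eq_true hc.2
  have h2 : ∀ i : Fin 11, dg 1227133513 i = 1 := by decide +kernel
  have h3 : ((rd 11 1227133513 c % 7 : ℕ) : F) = 0 := by
    have h4 : rd 11 1227133513 c % 7 = 0 := h1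
    rw [h4, Nat.cast_zero]
  rw [cast_mod h7, rd_eq] at h3
  simpa [h2] using h3

/-- **Injectivity.** -/
theorem vec_inj [CharP F 7] (hind : ∀ α : Fin 11 → F, ∑ i, α i • v i = 0 → ∀ i j, α i = α j) {c c' : ℕ}
    (hc : ok c = true) (hc' : ok c' = true) (h : vec (F := F) v c = vec (F := F) v c') : c = c' := by
  have h7 : (7 : F) = 0 := by exact_mod_cast CharP.cast_eq_zero F 7
  have h1 : ∑ i : Fin 11, (((dg c i : ℕ) : F) - ((dg c' i : ℕ) : F)) • v i = 0 := by
    simp only [sub_smul, Finset.sum_sub_distrib]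
    exact sub_eq_zero.2 h
  have h2 := hind _ h1
  have h3 : (11 : F) * (((dg c (0 : Fin 11) : ℕ) : F) - ((dg c' (0 : Fin 11) : ℕ) : F)) = 0 := by
    have h4 : ∑ i : Fin 11, (((dg c i : ℕ) : F) - ((dg c' i : ℕ) : F)) = 0 := by
      rw [Finset.sum_sub_distrib, sum_dg h7 hc, sum_dg h7 hc', sub_zero]
    rw [Finset.sum_congr rfl fun i _ => h2 i 0, Finset.sum_const, Finset.card_univ, Fintype.card_fin, nsmul_eq_mul] at h4
    exact_mod_cast h4
  have h5 : (((dg c (0 : Fin 11) : ℕ) : F) - ((dg c' (0 : Fin 11) : ℕ) : F)) = 0 := by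
    linear_combination 2 * h3 - 3 * (((dg c (0 : Fin 11) : ℕ) : F) - ((dg c' (0 : Fin 11) : ℕ) : F)) * h7
  rw [ok, Bool.and_eq_true] at hc hc'
  refine okd_ext hc.1 hc'.1 fun i hi => ?_
  have h6 := h2 ⟨i, hi⟩ 0
  rw [h5, sub_eq_zero] at h6
  have h8 := (CharP.natCast_eq_natCast F 7 (a := dg c i) (b := dg c' i)).1 h6
  have h9 := okd_lt hc.1 i
  have h10 := okd_lt hc'.1 i
  rw [Nat.ModEq, Nat.mod_eq_of_lt h9, Nat.mod_eq_of_lt h10] at h8
  exact h8

end Cfsg.Agent.H830.O10.Sev
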