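import Cfsg.Agent.H830.O10.Sev.Model

/-! # The braid relations (helper830) -/

set_option autoImplicit false

namespace Cfsg.Agent.H830.O10.Sev

open Cfsg.Agent.H830.O10

theorem W7_x : ∀ t : ZMod 11, t ≠ 0 → W7 * (pm (xp t) * W7) = pm (xp (-t⁻¹) * hp (-t⁻¹)) * (W7 * pm (xp (-t⁻¹))) := by
  decide +kernel

end Cfsg.Agent.H830.O10.Sev
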